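import Mathlib.RingTheory.Etale.Kaehler
import Mathlib.RingTheory.Smooth.StandardSmoothCotangent
import Mathlib.RingTheory.Unramified.Field
import Mathlib.RingTheory.Unramified.Finite
import Mathlib.RingTheory.Spectrum.Prime.Chevalley
import Mathlib.RingTheory.Flat.TorsionFree
import Mathlib.RingTheory.Jacobson.Ring

/-!
# A generator with a separable fibre

A domain which is smooth of relative dimension one near its generic point over an infinite field
has, for one of any given set of generators `t`, a constant `c` and a maximal ideal containing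
`t - c` with separable residue field.
-/

set_option autoImplicit false
set_option linter.style.haveILetI false

universe u

open KaehlerDifferential Polynomial

namespace Groth.Agent.Models7.GenusZero

variable (k A : Type u) [Field k] [CommRing A] [Algebra k A]

theorem D_mem_span_of_adjoin (L : Type u) [CommRing L] [Algebra k L] [Algebra A L] [IsScalarTower k A L]
    {T : Set A} (hT : Algebra.adjoin k T = ⊤) (a : A) :
    D k L (algebraMap A L a) ∈ Submodule.span L ((fun t => D k L (algebraMap A L t)) '' T) := by
  have ha : a ∈ Algebra.adjoin k T := hT ▸ Algebra.mem_top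
  induction ha using Algebra.adjoin_induction with
  | mem x hx => exact Submodule.subset_span ⟨x, hx, rfl⟩
  | algebraMap r =>
    rw [← IsScalarTower.algebraMap_apply, Derivation.map_algebraMap]
    exact zero_mem _
  | add x y _ _ hx hy => rw [map_add, map_add]; exact add_mem hx hy
  | mul x y _ _ hx hy =>
    rw [map_mul, Derivation.leibniz]
    exact add_mem (Submodule.smul_mem _ _ hy) (Submodule.smul_mem _ _ hx)

theorem span_D_eq_top_of_adjoin (L : Type u) [CommRing L] [Algebra k L] [Algebra A L] [IsScalarTower k A L]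
    (M : Submonoid A) [IsLocalization M L] {T : Set A} (hT : Algebra.adjoin k T = ⊤) :
    Submodule.span L ((fun t => D k L (algebraMap A L t)) '' T) = ⊤ := by
  refine top_le_iff.1 ((span_range_map_derivation_of_isLocalization k A L M).ge.trans ?_)
  refine Submodule.span_le.2 ?_
  rintro _ ⟨a, rfl⟩
  rw [Function.comp_apply, map_D]
  exact D_mem_span_of_adjoin k A L hT a

theorem exists_unramified_generator [IsDomain A] {T : Set A} (hT : Algebra.adjoin k T = ⊤) {g : A}
    (hg : g ≠ 0) [Algebra.IsStandardSmoothOfRelativeDimension 1 k (Localization.Away g)] :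
    ∃ t ∈ T, ∃ (B : Type u) (_ : CommRing B) (_ : IsDomain B) (_ : Algebra A B) (_ : Algebra k B)
      (_ : IsScalarTower k A B), Algebra.FiniteType k B ∧ Function.Injective (algebraMap A B) ∧
        Submodule.span B {D k B (algebraMap A B t)} = ⊤ := by
  classical
  let L := Localization.Away g
  haveI : IsDomain L := IsLocalization.isDomain_localization
    (powers_le_nonZeroDivisors_of_noZeroDivisors hg)
  haveI : Algebra.IsStandardSmooth k L := Algebra.IsStandardSmoothOfRelativeDimension.isStandardSmooth 1
  have hrank := Algebra.IsStandardSmoothOfRelativeDimension.rank_kaehlerDifferential (R := k) (S := L) 1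
  let b := Module.Free.chooseBasis L Ω[L⁄k]
  have hcard : Cardinal.mk (Module.Free.ChooseBasisIndex L Ω[L⁄k]) = 1 := by
    rw [b.mk_eq_rank'', hrank, Nat.cast_one]
  obtain ⟨hsub, ⟨i⟩⟩ := Cardinal.eq_one_iff_unique.1 hcard
  obtain ⟨t, ht, hne⟩ : ∃ t ∈ T, b.repr (D k L (algebraMap A L t)) i ≠ 0 := by
    by_contra hc
    push Not at hc
    have hle : Submodule.span L ((fun t => D k L (algebraMap A L t)) '' T) ≤
        LinearMap.ker ((Finsupp.lapply i) ∘ₗ b.repr.toLinearMap) :=
      Submodule.span_le.2 (by rintro _ ⟨t, ht, rfl⟩; exact hc t ht)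
    rw [span_D_eq_top_of_adjoin k A L (Submonoid.powers g) hT] at hle
    have := hle (Submodule.mem_top (x := b i))
    simp at this
  let r := b.repr (D k L (algebraMap A L t)) i
  have htr : D k L (algebraMap A L t) = r • b i := by
    conv_lhs => rw [← b.sum_repr (D k L (algebraMap A L t))]
    exact Fintype.sum_eq_single i fun j hj => absurd (Subsingleton.elim j i) hj
  let B := Localization.Away r
  haveI : IsDomain B := IsLocalization.isDomain_localization
    (powers_le_nonZeroDivisors_of_noZeroDivisors hne)
  haveI : Algebra.FiniteType k L := inferInstance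
  haveI : Algebra.FiniteType k B := Algebra.FiniteType.trans (S := L) inferInstance inferInstance
  refine ⟨t, ht, B, inferInstance, inferInstance, inferInstance, inferInstance, inferInstance, inferInstance,
    ?_, ?_⟩
  · rw [IsScalarTower.algebraMap_eq A L B]
    exact (IsLocalization.injective B (powers_le_nonZeroDivisors_of_noZeroDivisors hne)).comp
      (IsLocalization.injective L (powers_le_nonZeroDivisors_of_noZeroDivisors hg))
  · refine top_le_iff.1 ((span_range_map_derivation_of_isLocalization k L B (Submonoid.powers r)).ge.trans ?_)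
    refine Submodule.span_le.2 ?_
    rintro _ ⟨x, rfl⟩
    have hx : D k L x = b.repr (D k L x) i • b i := by
      conv_lhs => rw [← b.sum_repr (D k L x)]
      exact Fintype.sum_eq_single i fun j hj => absurd (Subsingleton.elim j i) hj
    obtain ⟨u, hu⟩ := IsLocalization.Away.algebraMap_isUnit (S := B) r
    have hb : KaehlerDifferential.map k k L B (b i) = (↑u⁻¹ : B) • D k B (algebraMap A B t) := by
      rw [IsScalarTower.algebraMap_apply A L B, ← map_D (R := k) (S := k), htr, map_smul,
        algebra_compatible_smul B r, smul_smul, ← hu, Units.inv_mul, one_smul]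
    rw [Function.comp_apply, hx, map_smul, hb, algebra_compatible_smul B (b.repr (D k L x) i)]
    exact Submodule.smul_mem _ _ (Submodule.smul_mem _ _ (Submodule.subset_span rfl))

theorem subsingleton_kaehler_polynomial (B : Type u) [CommRing B] [Algebra k B] [Algebra k[X] B]
    [IsScalarTower k k[X] B] (hspan : Submodule.span B {D k B (algebraMap k[X] B X)} = ⊤) :
    Subsingleton Ω[B⁄k[X]] := by
  refine subsingleton_of_forall_eq 0 fun ω => ?_
  obtain ⟨η, rfl⟩ := map_surjective k k[X] B ω
  obtain ⟨a, rfl⟩ := Submodule.mem_span_singleton.1 (hspan.ge (Submodule.mem_top (x := η)))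
  rw [map_smul, map_D, Algebra.algebraMap_self, RingHom.id_apply, Derivation.map_algebraMap, smul_zero]

/-- An unramified curve over the affine line dominates it. -/
theorem injective_algebraMap_of_unramified (B : Type u) [CommRing B] [IsDomain B] [Algebra k B]
    [Algebra k[X] B] [IsScalarTower k k[X] B] [Algebra.FiniteType k B]
    [Algebra.FormallyUnramified k[X] B] (hB : ¬ Module.Finite k B) :
    Function.Injective (algebraMap k[X] B) := by
  rw [RingHom.injective_iff_ker_eq_bot]
  by_contra hne
  refine hB ?_
  let P := RingHom.ker (algebraMap k[X] B)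
  haveI : P.IsPrime := RingHom.ker_isPrime _
  haveI : P.IsMaximal := IsPrime.to_maximal_ideal hne
  letI : Field (k[X] ⧸ P) := Ideal.Quotient.field P
  letI : Algebra (k[X] ⧸ P) B := (Ideal.Quotient.lift P (algebraMap k[X] B) fun x hx => hx).toAlgebra
  haveI : IsScalarTower k[X] (k[X] ⧸ P) B := IsScalarTower.of_algebraMap_eq fun x => rfl
  haveI : IsScalarTower k (k[X] ⧸ P) B := IsScalarTower.of_algebraMap_eq fun x => by
    rw [IsScalarTower.algebraMap_apply k k[X] B, IsScalarTower.algebraMap_apply k k[X] (k[X] ⧸ P),
      ← IsScalarTower.algebraMap_apply k[X] (k[X] ⧸ P) B]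
  haveI : Algebra.FormallyUnramified (k[X] ⧸ P) B :=
    Algebra.FormallyUnramified.of_restrictScalars k[X] _ _
  haveI : Algebra.FiniteType (k[X] ⧸ P) B := Algebra.FiniteType.of_restrictScalars_finiteType k _ _
  haveI : Module.Finite (k[X] ⧸ P) B := Algebra.FormallyUnramified.finite_of_free _ _
  haveI : Algebra.FiniteType k (k[X] ⧸ P) :=
    Algebra.FiniteType.of_surjective (Ideal.Quotient.mkₐ k P) Ideal.Quotient.mk_surjective
  haveI : Module.Finite k (k[X] ⧸ P) := finite_of_finite_type_of_isJacobsonRing _ _
  exact Module.Finite.trans (k[X] ⧸ P) B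

theorem exists_separable_fibre [Infinite k] (B : Type u) [CommRing B] [IsDomain B] [Algebra k B]
    [Algebra k[X] B] [IsScalarTower k k[X] B] [Algebra.FiniteType k B]
    [Algebra.FormallyUnramified k[X] B] (hB : ¬ Module.Finite k B) :
    ∃ (c : k) (Ω' : Type u) (_ : Field Ω') (_ : Algebra k Ω') (φ : B →ₐ[k] Ω'),
      FiniteDimensional k Ω' ∧ Algebra.IsSeparable k Ω' ∧ φ (algebraMap k[X] B X) = algebraMap k Ω' c := by
  have hinj := injective_algebraMap_of_unramified k B hB
  haveI : Module.IsTorsionFree k[X] B := by
    refine ⟨fun r hr a b hab => ?_⟩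
    simp only [Algebra.smul_def] at hab
    exact mul_left_cancel₀ ((map_ne_zero_iff _ hinj).2 hr.ne_zero) hab
  haveI : Algebra.FiniteType k[X] B := Algebra.FiniteType.of_restrictScalars_finiteType k _ _
  haveI : Algebra.FinitePresentation k[X] B := Algebra.FinitePresentation.of_finiteType.1 inferInstance
  have hopen := (PrimeSpectrum.isOpenMap_comap_of_hasGoingDown_of_finitePresentation
    (R := k[X]) (S := B)).isOpen_range
  obtain ⟨q₀⟩ := (inferInstance : Nonempty (PrimeSpectrum B))
  obtain ⟨_, ⟨h, rfl⟩, hq₀, hsub⟩ :=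
    PrimeSpectrum.isTopologicalBasis_basic_opens.exists_subset_of_mem_open
      (Set.mem_range_self (f := PrimeSpectrum.comap (algebraMap k[X] B)) q₀) hopen
  obtain ⟨c, hc⟩ : ∃ c : k, h.eval c ≠ 0 := by
    by_contra hc
    push Not at hc
    exact hq₀ (by rw [Polynomial.funext (p := h) (q := 0) fun c => by rw [hc c, eval_zero]]; exact zero_mem _)
  let pa : PrimeSpectrum k[X] := ⟨RingHom.ker (evalRingHom c), RingHom.ker_isPrime _⟩
  obtain ⟨q, hq⟩ := hsub (show pa ∈ (PrimeSpectrum.basicOpen h : Set _) from fun hmem => hc hmem)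
  obtain ⟨m, hm, hqm⟩ := Ideal.exists_le_maximal q.asIdeal q.isPrime.ne_top
  letI : Field (B ⧸ m) := Ideal.Quotient.field m
  haveI : Algebra.FiniteType k (B ⧸ m) :=
    Algebra.FiniteType.of_surjective (Ideal.Quotient.mkₐ k m) Ideal.Quotient.mk_surjective
  haveI : FiniteDimensional k (B ⧸ m) := finite_of_finite_type_of_isJacobsonRing _ _
  haveI : Algebra.FormallyUnramified k[X] (B ⧸ m) :=
    Algebra.FormallyUnramified.of_surjective (IsScalarTower.toAlgHom k[X] B (B ⧸ m))
      Ideal.Quotient.mk_surjective
  have hval : ∀ x : k[X], algebraMap k[X] (B ⧸ m) x = algebraMap k (B ⧸ m) (x.eval c) := fun x => by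
    have hx : x - C (x.eval c) ∈ pa.asIdeal := by
      show _ ∈ RingHom.ker (evalRingHom c)
      simp [RingHom.mem_ker]
    rw [← hq] at hx
    have h0 : Ideal.Quotient.mk m (algebraMap k[X] B (x - C (x.eval c))) = 0 :=
      Ideal.Quotient.eq_zero_iff_mem.2 (hqm hx)
    rw [map_sub, map_sub, sub_eq_zero] at h0
    refine h0.trans ?_
    rw [← Polynomial.algebraMap_eq, ← IsScalarTower.algebraMap_apply k k[X] B]
    rfl
  letI : Algebra k[X] k := (evalRingHom c).toAlgebra
  haveI : IsScalarTower k[X] k (B ⧸ m) := IsScalarTower.of_algebraMap_eq hval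
  haveI : Algebra.FormallyUnramified k (B ⧸ m) :=
    Algebra.FormallyUnramified.of_restrictScalars k[X] k (B ⧸ m)
  exact ⟨c, B ⧸ m, inferInstance, inferInstance, Ideal.Quotient.mkₐ k m, inferInstance,
    Algebra.FormallyUnramified.isSeparable k _, (hval X).trans (by rw [eval_X])⟩

/-- Some generator has a fibre with a point of separable residue field. -/
theorem exists_sep_point [Infinite k] [IsDomain A] (hA : ¬ IsField A) {T : Set A}
    (hT : Algebra.adjoin k T = ⊤) {g : A} (hg : g ≠ 0)
    [Algebra.IsStandardSmoothOfRelativeDimension 1 k (Localization.Away g)] :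
    ∃ t ∈ T, ∃ c : k, t ≠ algebraMap k A c ∧
      ∃ m : Ideal A, m.IsMaximal ∧ t - algebraMap k A c ∈ m ∧ Algebra.IsSeparable k (A ⧸ m) := by
  obtain ⟨t, ht, B, _, _, _, _, _, hft, hinj, hspan⟩ := exists_unramified_generator k A hT hg
  letI : Algebra k[X] B := (aeval (algebraMap A B t)).toRingHom.toAlgebra
  haveI : IsScalarTower k k[X] B := IsScalarTower.of_algebraMap_eq fun x =>
    ((aeval (algebraMap A B t)).commutes x).symm
  have hX : algebraMap k[X] B X = algebraMap A B t := aeval_X _
  haveI : Algebra.FormallyUnramified k[X] B :=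
    ⟨subsingleton_kaehler_polynomial k B (hX ▸ hspan)⟩
  have hB : ¬ Module.Finite k B := fun h => hA (by
    haveI : IsNoetherian k B := inferInstance
    haveI : Module.Finite k A := Module.Finite.of_injective (IsScalarTower.toAlgHom k A B).toLinearMap hinj
    exact isField_of_isIntegral_of_isField' (R := k) (Field.toIsField k))
  obtain ⟨c, K, _, _, φ, hfd, hsep, hφ⟩ := exists_separable_fibre k B hB
  rw [hX] at hφ
  refine ⟨t, ht, c, fun h => ?_, ?_⟩
  · rw [h, ← IsScalarTower.algebraMap_apply, Derivation.map_algebraMap, Submodule.span_zero_singleton] at hspan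
    haveI : Algebra.FormallyUnramified k B := ⟨subsingleton_of_forall_eq 0 fun ω =>
      (Submodule.mem_bot B).1 (hspan.ge (Submodule.mem_top (x := ω)))⟩
    exact hB (Algebra.FormallyUnramified.finite_of_free k B)
  · let ψ : A →ₐ[k] K := φ.comp (IsScalarTower.toAlgHom k A B)
    let f : (A ⧸ RingHom.ker ψ) →ₐ[k] K := Ideal.kerLiftAlg ψ
    haveI : IsDomain (A ⧸ RingHom.ker ψ) := (Ideal.Quotient.isDomain_iff_prime _).2 (RingHom.ker_isPrime _)
    haveI : Module.Finite k (A ⧸ RingHom.ker ψ) :=
      Module.Finite.of_injective f.toLinearMap (Ideal.kerLiftAlg_injective ψ)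
    refine ⟨RingHom.ker ψ, Ideal.Quotient.maximal_of_isField _
      (isField_of_isIntegral_of_isField' (R := k) (Field.toIsField k)), ?_, ?_⟩
    · rw [RingHom.mem_ker, map_sub, AlgHom.commutes, sub_eq_zero]
      exact hφ
    · exact (Algebra.isSeparable_def _ _).2 fun x => by
        rw [IsSeparable, ← minpoly.algHom_eq f (Ideal.kerLiftAlg_injective ψ) x]
        exact Algebra.IsSeparable.isSeparable k (f x)

end Groth.Agent.Models7.GenusZero
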