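import Groth.Agent.CurveRR24.GenusZeroEmb
import Groth.Agent.CurveRR24.Dual
import Groth.Agent.GenSmoothLib.OmegaFree
import Groth.Agent.Models7.GenusZero.SepFibre

/-!
# A separable point of degree at most two on a smooth curve of genus zero
-/

set_option autoImplicit false
set_option linter.style.haveILetI false
set_option backward.isDefEq.respectTransparency.types false
set_option maxHeartbeats 1000000

universe u

open CategoryTheory CategoryTheory.Limits AlgebraicGeometry Opposite TopologicalSpace
open Groth.Agent.Coherent Groth.Agent.PicLib Groth.Agent.AmpleLib Groth.Agent.EulerLib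
open Groth.Agent.CurveRR24

namespace Groth.Agent.Models7.GenusZero

variable (k : Type u) [Field k] {X : Scheme.{u}} [X.Over (Spec (CommRingCat.of k))]
  [IsProper (X ↘ Spec (CommRingCat.of k))] [IsIntegral X]

/-- The degree of an invertible module bounds the degree of a zero of a nonzero section. -/
theorem finrank_le_deg_of_zero (hdim : topologicalKrullDim X = 1) {L : X.Modules} (hL : PicF.IsInvertible L)
    {P : X} (hP : IsClosed ({P} : Set X)) (hn : IsIntegrallyClosed (X.presheaf.stalk P))
    {s : Γ(L, ⊤)} (hs : s ≠ 0) (hzero : P ∉ glocus L s) :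
    letI := Curv2.resAlgebra k X P
    (Module.finrank k (X.residueField P) : ℤ) ≤ Curv2.deg k X L 1 := by
  let _ := Curv2.resAlgebra k X P
  let s' : Γ((ptSeq hP L).X₂, ⊤) := (unitTensorIso L).inv.app ⊤ s
  have hs' : (unitTensorIso L).hom.app ⊤ s' = s :=
    congrArg (fun φ : L ⟶ L => φ.app ⊤ s) (unitTensorIso L).inv_hom_id
  have hg := app_g_eq_zero_of_not_mem hP hL s' (hs'.symm ▸ hzero)
  have hS := shortExact_ptSeq hP hL
  obtain ⟨z, hz⟩ := (exact_postA (baseHom k X) hS (⊤ : X.Opens) 0
    ((secA (baseHom k X) (ptSeq hP L).X₂).symm s')).1 ((secA (baseHom k X) _).injective (by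
      rw [secA_natural, map_zero, LinearEquiv.apply_symm_apply]; exact hg))
  have hnt : Nontrivial (Coh.HH X (ptSeq hP L).X₁ 0) := by
    refine nontrivial_of_ne ((HHBaseEquiv k (ptSeq hP L).X₁ 0).symm z) 0 fun h => hs ?_
    rw [LinearEquiv.map_eq_zero_iff] at h
    rw [h, map_zero] at hz
    have := congrArg (secA (baseHom k X) (ptSeq hP L).X₂) hz
    rw [map_zero, LinearEquiv.apply_symm_apply] at this
    rw [← hs', show s' = 0 from this.symm]
    exact map_zero _
  let I := ClSub.idealMod (ptIdeal P hP)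
  have hI : PicF.IsInvertible I := isInvertible_ptIdeal_of_normal k hdim hP hn
  have hd := deg_tensor_ptIdeal k hP hL
  have hM := deg_congr k (tensorComm L I)
  have := (deg_nonneg_of_section k hdim.le (isInvertible_tensorMod hI hL) hnt).1
  rw [← hM, hd] at this
  linarith

variable [Smooth (X ↘ Spec (CommRingCat.of k))]

theorem exists_deg_two (hdim : topologicalKrullDim X = 1)
    (h0 : Module.finrank k (Coh.HH X (Coh.structureModule X) 0) = 1) (hg : Curv2.genus k X = 0) :
    ∃ L : X.Modules, PicF.IsInvertible L ∧ Curv2.deg k X L 1 = 2 := by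
  haveI := isNoetherian_of_proper k (X := X)
  obtain ⟨ω, t, hω, hrep⟩ := SerreDual.exists_dualizing k X (d := 1) (by rw [hdim]; norm_num)
  have hi := isInvertible_dualizing_of_smooth hdim hω hrep
  have hd := deg_dualizing hrep hdim hi
  rw [euler_structure k hdim.le, h0, hg] at hd
  have hmem : Curv2.deg k X ω 1 ∈ degGroup k hdim.le := ⟨ω, hi, rfl⟩
  have := (degGroup k hdim.le).neg_mem hmem
  rw [hd] at this
  exact (show (2 : ℤ) ∈ degGroup k hdim.le by simpa using this)

/-- The generators and the chart. -/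
theorem exists_chart (hdim : topologicalKrullDim X = 1)
    (h0 : Module.finrank k (Coh.HH X (Coh.structureModule X) 0) = 1) (hg : Curv2.genus k X = 0) :
    ∃ (L : X.Modules) (s : Γ(L, ⊤)), PicF.IsInvertible L ∧ Curv2.deg k X L 1 = 2 ∧ s ≠ 0 ∧
      IsAffineOpen (glocus L s) ∧
      ∀ S : Subring Γ(X, glocus L s), (∀ c : k, res le_top (baseHom k X c) ∈ S) →
        (∀ a : Γ(L, ⊤), (isGen_glocus s).coef le_rfl (resM L le_top a) ∈ S) → ∀ f, f ∈ S := by
  haveI := isNoetherian_of_proper k (X := X)
  obtain ⟨L, hL, hdeg⟩ := exists_deg_two k hdim h0 hg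
  haveI h1 : Subsingleton (Coh.HH X (Coh.structureModule X) 1) := by
    haveI := finite_HH_of_isCoh k (isCoh_structureModule X) 1
    exact (Module.finrank_zero_iff (R := k)).1 hg
  haveI : Subsingleton (Coh.HH X L 1) := subsingleton_h1_of_deg k hdim.le h0 hL (by omega)
  have hrr := riemann_roch k hdim.le hL
  rw [h0, hg, hdeg, Module.finrank_zero_of_subsingleton (M := Coh.HH X L 1)] at hrr
  obtain ⟨z, hz⟩ := exists_ne_zero_of_nontrivial k
    (Module.nontrivial_of_finrank_pos (R := k) (M := Coh.HH X L 0) (by omega))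
  have hsurj := surjective_app_cokernel k h1 hL hz
  obtain ⟨u, hu⟩ := exists_section_generating k hdim.le hL hz hsurj
  have hcov : glocus L z ⊔ glocus L u = ⊤ := top_le_iff.1 fun x _ => by
    by_cases hx : x ∈ glocus L z
    · exact Or.inl hx
    · exact Or.inr (hu x hx)
  have hA : CohB1.IsAmple L := isAmple_of_deg_pos k hdim hL (by omega)
  have haff : ∀ a : Γ(L, ⊤), IsAffineOpen (glocus L a) :=
    MorProj.isAffineOpen_glocus_of_universallyClosed (X ↘ Spec (CommRingCat.of k)) hA
  refine ⟨L, z, hL, hdeg, hz, haff z, fun S hS1 hS2 f => ?_⟩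
  haveI := mono_unitDesc hL hz
  have hO : ∀ c : Γ(X, ⊤), ∃ a : k, baseHom k X a = c := by
    let F : k →ₗ[k] GA (baseHom k X) (Coh.structureModule X) :=
      { toFun := fun c => (show Γ(Coh.structureModule X, ⊤) from baseHom k X c)
        map_add' := fun a b => map_add (baseHom k X) a b
        map_smul' := fun a b => map_mul (baseHom k X) a b }
    haveI : Nontrivial Γ(X, ⊤) := inferInstance
    haveI : Module.Finite k (GA (baseHom k X) (Coh.structureModule X)) := by
      haveI := finite_HH_of_isCoh k (isCoh_structureModule X) 0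
      exact Module.Finite.equiv (hhZero k _)
    exact (LinearMap.injective_iff_surjective_of_finrank_eq_finrank (f := F)
      (by rw [Module.finrank_self, ← (hhZero k _).finrank_eq, h0])).1 (baseHom k X).injective
  exact mem_of_lifts hcov (haff u) hsurj S (fun c => by obtain ⟨a, rfl⟩ := hO c; exact hS1 a) hS2 f

theorem exists_away_relDim_one (hdim : topologicalKrullDim X = 1) {U : X.Opens} (hU : IsAffineOpen U)
    (hne : Nonempty U) :
    letI := ((X.presheaf.map (homOfLE (le_top : U ≤ ⊤)).op).hom.comp (baseHom k X)).toAlgebra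
    ∃ g : Γ(X, U), g ≠ 0 ∧ Algebra.IsStandardSmoothOfRelativeDimension 1 k (Localization.Away g) := by
  letI := ((X.presheaf.map (homOfLE (le_top : U ≤ ⊤)).op).hom.comp (baseHom k X)).toAlgebra
  let q := X ↘ Spec (CommRingCat.of k)
  haveI := GenSmoothLib.smoothOfRelativeDimension_toField q (d := 1) (by exact_mod_cast hdim)
  obtain ⟨s, hs, h⟩ := HasRingHomProperty.appLE (P := @SmoothOfRelativeDimension 1) q inferInstance
    ⟨⊤, isAffineOpen_top _⟩ ⟨U, hU⟩ (fun _ _ => trivial)
  obtain ⟨g, hgs, hg⟩ : ∃ g ∈ s, g ≠ 0 := by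
    by_contra hc
    push Not at hc
    have : Ideal.span s ≤ ⊥ := Ideal.span_le.2 hc
    rw [hs] at this
    exact one_ne_zero (this (Submodule.mem_top (x := (1 : Γ(X, U)))))
  refine ⟨g, hg, ?_⟩
  rw [← RingHom.isStandardSmoothOfRelativeDimension_algebraMap]
  have h2 := (RingHom.isStandardSmoothOfRelativeDimension_respectsIso (n := 1)).2 _
    (Scheme.ΓSpecIso (CommRingCat.of k)).commRingCatIsoToRingEquiv.symm (h g hgs)
  convert h2 using 1
  · rfl
  refine RingHom.ext fun x => ?_
  show algebraMap Γ(X, U) (Localization.Away g) (algebraMap k Γ(X, U) x) = algebraMap Γ(X, U) _ _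
  congr 1

/-- A smooth curve of genus zero over an infinite field has a point of degree at most two with
separable residue field. -/
theorem exists_sep_point_deg_le_two [Infinite k] (hdim : topologicalKrullDim X = 1)
    (h0 : Module.finrank k (Coh.HH X (Coh.structureModule X) 0) = 1) (hg : Curv2.genus k X = 0) :
    ∃ P : X, IsClosed ({P} : Set X) ∧
      (letI := Curv2.resAlgebra k X P
       FiniteDimensional k (X.residueField P) ∧ Algebra.IsSeparable k (X.residueField P) ∧
         Module.finrank k (X.residueField P) ≤ 2) := by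
  classical
  haveI := isNoetherian_of_proper k (X := X)
  haveI : JacobsonSpace X := LocallyOfFiniteType.jacobsonSpace (X ↘ Spec (CommRingCat.of k))
  obtain ⟨L, s, hL, hdeg, hs, hU, hgen⟩ := exists_chart k hdim h0 hg
  let U := glocus L s
  haveI hne : Nonempty U := ⟨⟨genericPoint X, genericPoint_mem_glocus hL hs⟩⟩
  haveI : IsDomain Γ(X, U) := inferInstance
  letI : Algebra k Γ(X, U) := ((X.presheaf.map (homOfLE (le_top : U ≤ ⊤)).op).hom.comp (baseHom k X)).toAlgebra
  let T : Set Γ(X, U) := Set.range fun a : Γ(L, ⊤) => (isGen_glocus s).coef le_rfl (resM L le_top a)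
  have hT : Algebra.adjoin k T = ⊤ := top_le_iff.1 fun f _ =>
    hgen (Algebra.adjoin k T).toSubring (fun c => (Algebra.adjoin k T).algebraMap_mem c)
      (fun a => Algebra.subset_adjoin ⟨a, rfl⟩) f
  have hclosed : ∀ p : PrimeSpectrum Γ(X, U), p.asIdeal.IsMaximal → IsClosed ({hU.fromSpec p} : Set X) := by
    intro p hp
    have hp' : p ∈ closedPoints (Spec Γ(X, U)) :=
      (PrimeSpectrum.isClosed_singleton_iff_isMaximal p).2 hp
    rw [← hU.fromSpec.isOpenEmbedding.preimage_closedPoints] at hp'
    exact hp'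
  have hnf : ¬ IsField Γ(X, U) := fun hF => by
    obtain ⟨p, hp⟩ : genericPoint X ∈ Set.range hU.fromSpec :=
      hU.range_fromSpec.ge (genericPoint_mem_glocus hL hs)
    letI := hF.toField
    have hc := hclosed p (by
      rw [(Ideal.eq_bot_or_top p.asIdeal).resolve_right p.isPrime.ne_top]; exact Ideal.bot_isMaximal)
    rw [hp] at hc
    refine genericPoint_notMem_of_dim hdim hc ?_ rfl
    exact topologicalKrullDim_zero_of_discreteTopology _
  obtain ⟨g, hg0, hsm⟩ := exists_away_relDim_one k hdim hU hne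
  haveI := hsm
  obtain ⟨t, ⟨a, rfl⟩, c, htc, m, hm, htm, hsep⟩ := exists_sep_point k Γ(X, U) hnf hT hg0
  let p : PrimeSpectrum Γ(X, U) := ⟨m, hm.isPrime⟩
  let P : X := hU.fromSpec p
  have hPU : P ∈ U := hU.range_fromSpec.le ⟨p, rfl⟩
  have hev : ∀ f, X.evaluation U P hPU f = 0 ↔ f ∈ m := fun f => by
    rw [X.evaluation_eq_zero_iff_notMem_basicOpen]
    have := Set.ext_iff.1 (congrArg SetLike.coe (hU.fromSpec_preimage_basicOpen f)) p
    change (¬ P ∈ X.basicOpen f) ↔ _
    rw [show P ∈ X.basicOpen f ↔ f ∉ m from this, not_not]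
  have hP : IsClosed ({P} : Set X) := hclosed p hm
  let _ := Curv2.resAlgebra k X P
  let e : Γ(X, U) →ₐ[k] X.residueField P :=
    { (X.evaluation U P hPU).hom with commutes' := fun r => (resMap_eq_evaluation k hPU r).symm }
  have hker : RingHom.ker e = m := Ideal.ext fun f => hev f
  have hsurj : Function.Surjective e := evaluation_surjective_of_isClosed hU hPU hP
  let eq : (Γ(X, U) ⧸ m) ≃ₐ[k] X.residueField P :=
    (Ideal.quotientEquivAlgOfEq k hker.symm).trans (Ideal.quotientKerAlgEquivOfSurjective hsurj)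
  haveI : Algebra.IsSeparable k (Γ(X, U) ⧸ m) := hsep
  haveI : FiniteDimensional k (X.residueField P) := finite_resField hP k
  refine ⟨P, hP, inferInstance, AlgEquiv.Algebra.isSeparable eq, ?_⟩
  let s' : Γ(L, ⊤) := a - baseHom k X c • s
  have hcoef : (isGen_glocus s).coef le_rfl (resM L le_top s') =
      (isGen_glocus s).coef le_rfl (resM L le_top a) - algebraMap k Γ(X, U) c := by
    refine (isGen_glocus s).coef_eq le_rfl ?_
    rw [sub_smul, (isGen_glocus s).coef_spec, map_sub, resM_smul, resM_self]
    rfl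
  have hzero : P ∉ glocus L s' := fun h => by
    have h' := (glocus_inf s' (isGen_glocus s)).le ⟨h, hPU⟩
    rw [hcoef, ← SetLike.mem_coe] at h'
    exact (X.evaluation_eq_zero_iff_notMem_basicOpen (x := P) hPU _).1 ((hev _).2 htm) h'
  have hs'0 : s' ≠ 0 := fun h => htc (sub_eq_zero.1 (hcoef.symm.trans
    ((isGen_glocus s).coef_eq le_rfl (by rw [zero_smul, h, map_zero]))))
  haveI := VarietyLib.isRegularLocalRing_stalk_of_smooth k _ (X ↘ Spec (CommRingCat.of k)) P
  haveI : IsDomain (X.presheaf.stalk P) := inferInstance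
  haveI : IsDiscreteValuationRing (X.presheaf.stalk P) :=
    IsLocalRing.finrank_CotangentSpace_eq_one_iff.1 (by
      have h := (IsRegularLocalRing.iff_finrank_cotangentSpace (X.presheaf.stalk P)).1 inferInstance
      rw [stalk_dim_eq_one hdim hP] at h
      exact_mod_cast h)
  have := finrank_le_deg_of_zero k hdim hL hP inferInstance hs'0 hzero
  rw [hdeg] at this
  exact_mod_cast this

end Groth.Agent.Models7.GenusZero
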