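import Groth.Agent.Models7.GenusZero.SepPoint
import Groth.Agent.S6544
import Groth.Agent.S1550
import Groth.Agent.AbVarLib.GeomIntegralSmooth
import Groth.Agent.FlatMor12.SteinGeneral
import Groth.Agent.CurveRR24.GenusZero
import Groth.Agent.CurveRR24.BCField
import Groth.Agent.DimLib.BaseChange
import Groth.Prelude.Def_ModelsG

/-!
# Splitting a curve of genus zero by a separable quadratic extension
-/

set_option autoImplicit false
set_option linter.style.haveILetI false
set_option backward.isDefEq.respectTransparency.types false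

universe u

open CategoryTheory CategoryTheory.Limits AlgebraicGeometry

namespace Groth.Agent.Models7.GenusZero

theorem isIso_app_of_isIso_appTop {X : Scheme.{u}} {k : Type u} [Field k]
    (f : X ⟶ Spec (CommRingCat.of k)) [IsIso f.appTop] (V : (Spec (CommRingCat.of k)).Opens) :
    IsIso (f.app V) := by
  haveI : Subsingleton ↥(Spec (CommRingCat.of k)) := inferInstanceAs (Subsingleton (PrimeSpectrum k))
  rcases V.eq_bot_or_top with rfl | rfl
  · haveI : Subsingleton Γ(X, f ⁻¹ᵁ ⊥) := by
      rw [show f ⁻¹ᵁ (⊥ : (Spec (CommRingCat.of k)).Opens) = ⊥ from rfl]; infer_instance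
    haveI : Subsingleton Γ(Spec (CommRingCat.of k), ⊥) := inferInstance
    rw [ConcreteCategory.isIso_iff_bijective]
    exact ⟨fun a b _ => Subsingleton.elim a b, fun b => ⟨0, Subsingleton.elim _ b⟩⟩
  · exact ‹IsIso f.appTop›

/-- A smooth proper curve of genus zero over an infinite field becomes the line over a separable
extension of degree at most two. -/
theorem exists_split (k : Type u) [Field k] [Infinite k] (C : Scheme.{u})
    (f : C ⟶ Spec (CommRingCat.of k)) [IsProper f] [Smooth f] [IsIntegral C]
    (hdim : topologicalKrullDim C = 1) [IsIso f.appTop] (hg : Models.curveGenus k C f = 0) :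
    ∃ (K' : Type u) (_ : Field K') (ψ : k →+* K'),
      Models.IsFiniteSeparable ψ ∧ Models.homDegree ψ ≤ 2 ∧
      ∃ e : (pullback f (Spec.map (CommRingCat.ofHom ψ))) ≅ CohB1.ProjSpace 1 K',
        e.hom ≫ CohB1.ProjSpace.toSpec 1 K' = (pullback.snd f (Spec.map (CommRingCat.ofHom ψ))) := by
  letI : C.Over (Spec (CommRingCat.of k)) := ⟨f⟩
  haveI : IsProper (C ↘ Spec (CommRingCat.of k)) := ‹IsProper f›
  haveI : Smooth (C ↘ Spec (CommRingCat.of k)) := ‹Smooth f›
  haveI : GeometricallyConnected f :=
    FlatMor12.SteinGeneral.geometricallyConnected_of_isIso_app f (isIso_app_of_isIso_appTop f)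
  haveI : GeometricallyIntegral f := AbVarLib.geometricallyIntegral_of_smooth f
  haveI : GeometricallyIntegral (C ↘ Spec (CommRingCat.of k)) := ‹GeometricallyIntegral f›
  have h0 := CurveRR24.h0_structure_of_geomIntegral k (X := C)
  have hgen : Curv2.genus k C = 0 := hg
  obtain ⟨P, hP, hfd, hsep, hle⟩ := exists_sep_point_deg_le_two k hdim h0 hgen
  letI := Curv2.resAlgebra k C P
  refine ⟨C.residueField P, inferInstance, Curv2.resMap k C P, ⟨hfd, hsep⟩, hle, ?_⟩
  let t := Spec.map (CommRingCat.ofHom (algebraMap k (C.residueField P)))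
  change ∃ e : pullback f t ≅ _, e.hom ≫ _ = pullback.snd f t
  let C' := pullback f t
  letI : C'.Over (Spec (CommRingCat.of (C.residueField P))) := ⟨pullback.snd f t⟩
  let q' := C' ↘ Spec (CommRingCat.of (C.residueField P))
  haveI : IsProper q' := MorphismProperty.pullback_snd f t ‹IsProper f›
  haveI : Smooth q' := MorphismProperty.pullback_snd f t ‹Smooth f›
  haveI : IsIntegral C' := GeometricallyIntegral.geometrically_isIntegral (f := f) t (pullback.fst f t) _
    (IsPullback.of_hasPullback f t)
  haveI : GeometricallyIrreducible q' :=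
    MorphismProperty.of_isPullback (IsPullback.of_hasPullback f t) (inferInstance : GeometricallyIrreducible f)
  have hdim' : topologicalKrullDim C' = 1 := (DimLib.topologicalKrullDim_bc f _).trans hdim
  haveI := EulerLib.isNoetherian_of_proper k (X := C)
  have hg' : Curv2.genus (C.residueField P) C' = 0 :=
    (CurveRR24.genus_bc (k := k) (X := C) (IsPullback.of_hasPullback f t)).trans hgen
  let s : Spec (CommRingCat.of (C.residueField P)) ⟶ C' :=
    pullback.lift (C.fromSpecResidueField P) (𝟙 _) (by
      rw [Category.id_comp]; exact (S1550.specMap_resMap k C P).symm)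
  obtain ⟨L, hL, hd⟩ := CurveRR24.exists_deg_one_of_section (k := C.residueField P) hdim' s
    (pullback.lift_snd _ _ _)
  exact S6544.result (C.residueField P) C' hdim' hg' L hL (hd ▸ odd_one)

end Groth.Agent.Models7.GenusZero
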